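import Mathlib
import Cfsg.Agent.Lib.Cover.Code
import Cfsg.Agent.Lib.ClGeo.F4

/-! Small finite fields with tables, and their regular representations. -/

set_option autoImplicit false
set_option maxRecDepth 100000

namespace H19.Cov

open H30

/-- the field with eight elements: polynomials over `ZMod 2` modulo `x ^ 3 + x + 1` -/
structure F8 : Type where
  val : Fin 8
  deriving DecidableEq

namespace F8

instance instFintype : Fintype F8 where
  elems := ⟨↑[mk 0, mk 1, mk 2, mk 3, mk 4, mk 5, mk 6, mk 7], by decide⟩
  complete := by rintro ⟨x⟩; revert x; decide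

/-- the element with number `n` -/
def ofN (n : ℕ) : F8 := ⟨Fin.ofNat 8 n⟩

instance instZero : Zero F8 := ⟨mk 0⟩
instance instOne : One F8 := ⟨mk 1⟩
instance instAdd : Add F8 := ⟨fun a b => ofN (Nat.xor a.val.1 b.val.1)⟩
instance instMul : Mul F8 := ⟨fun a b => ofN (Nat.land (Nat.shiftRight 0x73157889d3f0cfa868356ee0467b98bcbd10fac688000000
  (3 * (8 * a.val.1 + b.val.1))) 7)⟩
instance instNeg : Neg F8 := ⟨fun a => a⟩
instance instInv : Inv F8 := ⟨fun a => a * a * a * a * a * a⟩

instance instCommRing : CommRing F8 where
  add_assoc := by decide +kernel
  zero_add := by decide +kernel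
  add_zero := by decide +kernel
  nsmul := nsmulRec
  zsmul := zsmulRec
  neg_add_cancel := by decide +kernel
  add_comm := by decide +kernel
  left_distrib := by decide +kernel
  right_distrib := by decide +kernel
  zero_mul := by decide +kernel
  mul_zero := by decide +kernel
  mul_assoc := by decide +kernel
  one_mul := by decide +kernel
  mul_one := by decide +kernel
  mul_comm := by decide +kernel

instance instField : Field F8 where
  exists_pair_ne := ⟨mk 0, mk 1, by decide⟩
  mul_inv_cancel := by decide +kernel
  inv_zero := by decide +kernel
  nnqsmul := _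
  nnqsmul_def := fun _ _ => rfl
  qsmul := _
  qsmul_def := fun _ _ => rfl

theorem card_eq : Fintype.card F8 = 8 := rfl

theorem natCard_eq : Nat.card F8 = 8 := by rw [Nat.card_eq_fintype_card, card_eq]

end F8

/-- the field with nine elements: `mk (a + 3 b)` is `a + b i`, `i ^ 2 = -1` -/
structure F9 : Type where
  val : Fin 9
  deriving DecidableEq

namespace F9

instance instFintype : Fintype F9 where
  elems := ⟨↑[mk 0, mk 1, mk 2, mk 3, mk 4, mk 5, mk 6, mk 7, mk 8], by decide⟩
  complete := by rintro ⟨x⟩; revert x; decide

/-- the element with number `n` -/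
def ofN (n : ℕ) : F9 := ⟨Fin.ofNat 9 n⟩

instance instZero : Zero F9 := ⟨mk 0⟩
instance instOne : One F9 := ⟨mk 1⟩
instance instAdd : Add F9 := ⟨fun a b => ofN ((a.val.1 + b.val.1) % 3 + 3 * (a.val.1 / 3 + b.val.1 / 3))⟩
instance instMul : Mul F9 := ⟨fun a b => ofN ((a.val.1 * b.val.1 + 2 * (a.val.1 / 3) * (b.val.1 / 3)) % 3 +
  3 * (a.val.1 * (b.val.1 / 3) + (a.val.1 / 3) * b.val.1))⟩
instance instNeg : Neg F9 := ⟨fun a => mk 2 * a⟩
instance instInv : Inv F9 := ⟨fun a => a * a * a * a * a * a * a⟩

instance instCommRing : CommRing F9 where
  add_assoc := by decide +kernel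
  zero_add := by decide +kernel
  add_zero := by decide +kernel
  nsmul := nsmulRec
  zsmul := zsmulRec
  neg_add_cancel := by decide +kernel
  add_comm := by decide +kernel
  left_distrib := by decide +kernel
  right_distrib := by decide +kernel
  zero_mul := by decide +kernel
  mul_zero := by decide +kernel
  mul_assoc := by decide +kernel
  one_mul := by decide +kernel
  mul_one := by decide +kernel
  mul_comm := by decide +kernel

instance instField : Field F9 where
  exists_pair_ne := ⟨mk 0, mk 1, by decide⟩
  mul_inv_cancel := by decide +kernel
  inv_zero := by decide +kernel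
  nnqsmul := _
  nnqsmul_def := fun _ _ => rfl
  qsmul := _
  qsmul_def := fun _ _ => rfl

theorem card_eq : Fintype.card F9 = 9 := rfl

theorem natCard_eq : Nat.card F9 = 9 := by rw [Nat.card_eq_fintype_card, card_eq]

end F9

/-- the element of `F4` with number `n` -/
def dec4 (n : ℕ) : F4 := if n = 0 then .o else if n = 1 then .i else if n = 2 then .w else .v

/-- the number of an element of `F4` -/
def enc4 : F4 → ℕ
  | .o => 0 | .i => 1 | .w => 2 | .v => 3

theorem ft2 : FT (ZMod 2) 2 Nat.cast 0x10000000000000010
    0x100000000000000000 0x10 :=
  ⟨Nat.card_zmod 2, by decide +kernel, by decide +kernel, rfl, rfl, by decide +kernel, by decide +kernel,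
    by decide +kernel⟩

theorem ft3 : FT (ZMod 3) 3 Nat.cast 0x10200000000000000210000000000000210
    0x12000000000000002100000000000000000 0x120 :=
  ⟨Nat.card_zmod 3, by decide +kernel, by decide +kernel, rfl, rfl, by decide +kernel, by decide +kernel,
    by decide +kernel⟩

theorem ft4 : FT F4 4 dec4 0x123000000000000103200000000000023010000000000003210
    0x2130000000000000132000000000000032100000000000000000 0x2310 :=
  ⟨F4.natCard_eq, by decide +kernel, by decide +kernel, rfl, rfl, by decide +kernel, by decide +kernel,
    by decide +kernel⟩

theorem ft8 : FT F8 8 F8.ofN 0x12345670000000010325476000000002301674500000000321076540000000045670123000000005476103200000000674523010000000076543210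
    0x346125700000000042351760000000006372415000000000152673400000000021475630000000005713642000000000765432100000000000000000 0x43276510 :=
  ⟨F8.natCard_eq, by decide +kernel, by decide +kernel, rfl, rfl, by decide +kernel, by decide +kernel,
    by decide +kernel⟩

theorem ft9 : FT F9 9 F9.ofN 0x43510276800000003540216870000000543210876000000010276843500000000216873540000000210876543000000076843510200000006873540210000000876543210
    0x61523748000000001386245700000000582471360000000026431875000000003271658400000000741852630000000045378612000000008765432100000000000000000 0x546873120 :=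
  ⟨F9.natCard_eq, by decide +kernel, by decide +kernel, rfl, rfl, by decide +kernel, by decide +kernel,
    by decide +kernel⟩

/-- the regular representation over the prime field -/
def kap2 : ZMod 2 →+* Matrix (Fin 1) (Fin 1) (ZMod 2) where
  toFun a := Matrix.of fun _ _ => a
  map_one' := by decide +kernel
  map_mul' := by decide +kernel
  map_zero' := by decide +kernel
  map_add' := by decide +kernel

theorem kap2_inj : Function.Injective kap2 := by decide +kernel

/-- the regular representation over the prime field -/
def kap3 : ZMod 3 →+* Matrix (Fin 1) (Fin 1) (ZMod 3) where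
  toFun a := Matrix.of fun _ _ => a
  map_one' := by decide +kernel
  map_mul' := by decide +kernel
  map_zero' := by decide +kernel
  map_add' := by decide +kernel

theorem kap3_inj : Function.Injective kap3 := by decide +kernel

/-- the regular representation over the prime field -/
def kap4 : F4 →+* Matrix (Fin 2) (Fin 2) (ZMod 2) where
  toFun a := Matrix.of fun i j => ((enc4 (a * dec4 (2 ^ j.1)) / 2 ^ i.1 : ℕ) : ZMod 2)
  map_one' := by decide +kernel
  map_mul' := by decide +kernel
  map_zero' := by decide +kernel
  map_add' := by decide +kernel

theorem kap4_inj : Function.Injective kap4 := by decide +kernel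

/-- the regular representation over the prime field -/
def kap8 : F8 →+* Matrix (Fin 3) (Fin 3) (ZMod 2) where
  toFun a := Matrix.of fun i j => (((a * F8.ofN (2 ^ j.1)).val.1 / 2 ^ i.1 : ℕ) : ZMod 2)
  map_one' := by decide +kernel
  map_mul' := by decide +kernel
  map_zero' := by decide +kernel
  map_add' := by decide +kernel

theorem kap8_inj : Function.Injective kap8 := by decide +kernel

/-- the regular representation over the prime field -/
def kap9 : F9 →+* Matrix (Fin 2) (Fin 2) (ZMod 3) where
  toFun a := Matrix.of fun i j => (((a * F9.ofN (3 ^ j.1)).val.1 / 3 ^ i.1 : ℕ) : ZMod 3)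
  map_one' := by decide +kernel
  map_mul' := by decide +kernel
  map_zero' := by decide +kernel
  map_add' := by decide +kernel

theorem kap9_inj : Function.Injective kap9 := by decide +kernel

end H19.Cov
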