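import Mathlib
import Cfsg.Agent.Lib.Chev.SteinCenter
import Cfsg.Agent.Lib.Schur.Asm
import Cfsg.Agent.Lib.ClGeo.F4
import Cfsg.Agent.S1104

/-! The triple cover of `²E₆(2)`, inside the Steinberg group of type `E₆` over the field with four elements. -/

set_option autoImplicit false

namespace H19.Cov

open Cfsg Cfsg.Lie H38

theorem lowB_of_sub {X Y : Type*} [Group X] [Group Y] (φ : X →* Y) (hc : φ.ker ≤ Subgroup.center X)
    (A : Subgroup Y) (hA : A ≤ φ.range) (hp : commutator A = ⊤) {z : X} (hz : φ z = 1) {m : ℕ}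
    (hm : orderOf z = m) {N p : ℕ} (hN : ∀ y, φ y = 1 → y ^ N = 1) (hpN : p.Coprime N)
    (hz' : z ∈ Subgroup.closure {x | φ x ∈ A ∧ x ^ p = 1}) : H60.LowB A m := by
  let ξ : A.comap φ →* A := (φ.comp (A.comap φ).subtype).codRestrict _ fun x => x.2
  have hs : Function.Surjective ξ := fun a => by
    obtain ⟨x, hx⟩ := hA a.2
    exact ⟨⟨x, by rw [Subgroup.mem_comap, hx]; exact a.2⟩, Subtype.ext hx⟩
  have hk : ξ.ker ≤ Subgroup.center _ := fun x hx => Subgroup.mem_center_iff.2 fun y =>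
    Subtype.ext (Subgroup.mem_center_iff.1 (hc (congrArg Subtype.val hx)) y)
  have h1 : Subgroup.closure {x | φ x ∈ A ∧ x ^ p = 1} ≤ (commutator (A.comap φ)).map (A.comap φ).subtype := by
    rw [Subgroup.closure_le]
    rintro x ⟨hx, e⟩
    have h2 : ξ ⟨x, hx⟩ ∈ (commutator (A.comap φ)).map ξ := by
      rw [H78.Schur.map_commutator_of_surjective ξ hs, hp]; trivial
    obtain ⟨y, hy, e'⟩ := h2
    refine ⟨⟨x, hx⟩, (QuotientGroup.eq_one_iff _).1 ?_, rfl⟩
    have h3 : (y⁻¹ * ⟨x, hx⟩) ^ N = 1 := Subtype.ext (hN _ (congrArg Subtype.val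
      (show ξ (y⁻¹ * ⟨x, hx⟩) = 1 by rw [map_mul, map_inv, e', inv_mul_cancel])))
    have h4 := congrArg (QuotientGroup.mk' (commutator (A.comap φ))) h3
    rw [map_pow, map_mul, map_inv, QuotientGroup.mk'_apply, (QuotientGroup.eq_one_iff _).2 hy, inv_one, one_mul,
      map_one] at h4
    have h5 := congrArg (QuotientGroup.mk' (commutator (A.comap φ))) (show (⟨x, hx⟩ : A.comap φ) ^ p = 1 from
      Subtype.ext e)
    rw [map_pow, map_one] at h5
    have := pow_gcd_eq_one.2 ⟨h5, h4⟩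
    rwa [hpN.gcd_eq_one, pow_one] at this
  obtain ⟨y, hy, rfl⟩ := h1 hz'
  exact H60.lowB_of_elt ξ hs hk (Subtype.ext hz) hy ((Subgroup.orderOf_coe y).symm.trans hm)

theorem h_mul_h_mem {ι l K G : Type} [Fintype l] [DecidableEq l] [Field K] [Group G] {R : RS ι l}
    (E : PreElts R K G) (h2 : ∀ a : K, -a = a) {r s : ι} {H : Subgroup G}
    (c1 : ∀ t u, Commute (E.x r t) (E.x s u)) (c2 : ∀ t u, Commute (E.x r t) (E.x (R.neg s) u))
    (c3 : ∀ t u, Commute (E.x (R.neg r) t) (E.x s u)) (c4 : ∀ t u, Commute (E.x (R.neg r) t) (E.x (R.neg s) u))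
    (h1 : ∀ t, E.x r t * E.x s (t ^ 2) ∈ H) (h1' : ∀ t, E.x (R.neg r) t * E.x (R.neg s) (t ^ 2) ∈ H) (c : K) :
    E.h r c * E.h s (c ^ 2) ∈ H := by
  have k : ∀ c, E.n r c * E.n s (c ^ 2) ∈ H := fun c => by
    have := H.mul_mem (H.mul_mem (h1 c) (h1' c⁻¹)) (h1 c)
    rw [inv_pow] at this
    rw [PreElts.n, PreElts.n, h2, h2]
    convert this using 1
    simp only [mul_assoc]
    rw [← mul_assoc (E.x s _) (E.x (R.neg r) _), ← (c3 _ _).eq, ← mul_assoc (E.x (R.neg s) _) (E.x r _),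
      ← (c2 _ _).eq, mul_assoc, mul_assoc, ← mul_assoc (E.x s _) (E.x r _), ← (c1 _ _).eq, mul_assoc]
  have k2 : ∀ c d, Commute (E.n r c) (E.n s d) := fun c d =>
    ((((c1 _ _).mul_right (c2 _ _)).mul_right (c1 _ _)).mul_left
      (((c3 _ _).mul_right (c4 _ _)).mul_right (c3 _ _))).mul_left
      (((c1 _ _).mul_right (c2 _ _)).mul_right (c1 _ _))
  have := H.mul_mem (k c) (k 1)
  rw [one_pow] at this
  rw [PreElts.h, PreElts.h, h2, (k2 1 (c ^ 2)).mul_mul_mul_comm]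
  exact this

theorem commute_stGen {D : ChevalleyDatum} {K : Type} [Field K] {r s : ℕ}
    (h : r < D.nroots ∧ s < D.nroots ∧ s ≠ r ∧ s ≠ D.neg r ∧ D.commTerms r s = []) (t u : K) :
    Commute (D.stGen K r t) (D.stGen K s u) := by
  have := (stSt D K).comm r h.1 s h.2.1 h.2.2.1 h.2.2.2.1 t u
  rw [ChevalleyDatum.commWord, h.2.2.2.2, List.map_nil, List.map_nil, List.prod_nil, mul_one] at this
  exact this.symm

/-- a generator of the multiplicative group of `F4` -/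
def om4 : H30.F4ˣ := ⟨.w, .v, rfl, rfl⟩

/-- the torus coordinates of a central element of order three -/
def cz : Fin chevE6.rank → H30.F4ˣ :=
  Pi.mulSingle ⟨0, by decide⟩ om4 * Pi.mulSingle ⟨5, by decide⟩ (om4 ^ 2) *
    (Pi.mulSingle ⟨2, by decide⟩ (om4 ^ 2) * Pi.mulSingle ⟨4, by decide⟩ ((om4 ^ 2) ^ 2))

theorem lowB_twistedE6 : H60.LowB (twistedE6 H30.F4 2) 3 := by
  have hD : chevE6 ∈ [chevG2, chevB2, chevD4, chevF4, chevE6, chevE7, chevE8] := by simp
  obtain ⟨R, E, hE⟩ := exists_isMat hD H30.F4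
  have h2 : ∀ a : H30.F4, -a = a := by decide
  have hi := tor_st_injective_E6 hE
  let φ := (chevE6.group H30.F4).subtype.comp hE.θ
  have hk : ∀ y, φ y = 1 ↔ y ∈ Subgroup.center _ := fun y => by
    rw [← hE.θ_ker hD]; exact (Subtype.ext_iff (a1 := hE.θ y) (a2 := 1)).symm
  have hx : ∀ r < chevE6.nroots, ∀ t, (φ (chevE6.stGen H30.F4 r t) : Matrix _ _ _) = chevE6.x H30.F4 r t :=
    fun r hr t => hE.θ_stGen hr t
  have h3 : ∀ y, φ y = 1 → y ^ 3 = 1 := fun y hy => by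
    have := pow_card_eq_one' (x := (⟨y, (hk y).1 hy⟩ : Subgroup.center _))
    rw [hE.card_center_st hD hi smithE6, H30.F4.natCard_eq] at this
    exact congrArg Subtype.val this
  have hz : φ (Elts.tor (hE.st_R3 hD) cz) = 1 := by
    rw [hk, hE.center_st hD]
    exact ⟨cz, (by decide +kernel : mact (cartanMat chevE6) cz = 1), rfl⟩
  have key : ∀ rs ∈ [(e6p1, e6p6), (e6m1, e6m6), (e6p3, e6p5), (e6m3, e6m5)], ∀ t : H30.F4,
      chevE6.stGen H30.F4 rs.1 t * chevE6.stGen H30.F4 rs.2 (t ^ 2) ∈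
        Subgroup.closure {x | φ x ∈ twistedE6 H30.F4 2 ∧ x ^ 2 = 1} := fun rs hrs t => by
    have h : rs.1 < chevE6.nroots ∧ rs.2 < chevE6.nroots ∧ rs.2 ≠ rs.1 ∧ rs.2 ≠ chevE6.neg rs.1 ∧
      chevE6.commTerms rs.1 rs.2 = [] := by revert rs; decide +kernel
    have e : ∀ r < chevE6.nroots, ∀ t, chevE6.stGen H30.F4 r t ^ 2 = 1 := fun r hr t => by
      have a := (stSt chevE6 H30.F4).x_add r hr
      simp only [stSt_x] at a
      have b := a 0 0
      rw [add_zero, mul_eq_left] at b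
      rw [sq, a, add_eq_zero_iff_eq_neg.2 (h2 t).symm, b]
    refine Subgroup.subset_closure ⟨Subgroup.subset_closure ⟨_, Or.inr ⟨t, rs, hrs, rfl⟩, ?_⟩, ?_⟩
    · rw [map_mul, Units.val_mul, hx _ h.1, hx _ h.2.1]; simp [ChevalleyDatum.wordMat]
    · rw [(commute_stGen h _ _).mul_pow, e _ h.1, e _ h.2.1, one_mul]
  have : Fact (Nat.Prime 3) := Nat.fact_prime_three
  refine lowB_of_sub φ (fun y hy => (hk y).1 hy) _ ?_ (Cfsg.Agent.S1104.result Nat.prime_two.isPrimePow rfl) hz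
    (orderOf_eq_prime (h3 _ hz) fun e => (by decide +kernel : cz ≠ 1) (hi (e.trans (map_one _).symm))) h3
    (by norm_num : Nat.Coprime 2 3) ?_
  · rw [twistedE6, ChevalleyDatum.genSubgroup, Subgroup.closure_le]
    rintro g ⟨w, ⟨t, -, r, hr, rfl⟩ | ⟨t, rs, hr, rfl⟩, e⟩
    · refine ⟨chevE6.stGen H30.F4 r t, Units.ext ?_⟩
      rw [e, hx r (by clear e; revert r; decide +kernel)]; simp [ChevalleyDatum.wordMat]
    · refine ⟨chevE6.stGen H30.F4 rs.1 t * chevE6.stGen H30.F4 rs.2 (t ^ 2), Units.ext ?_⟩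
      rw [e, map_mul, Units.val_mul, hx rs.1 (by clear e; revert rs; decide +kernel),
        hx rs.2 (by clear e; revert rs; decide +kernel)]
      simp [ChevalleyDatum.wordMat]
  · rw [cz, map_mul, map_mul, map_mul, Elts.tor_single, Elts.tor_single, Elts.tor_single, Elts.tor_single]
    refine mul_mem (h_mul_h_mem _ h2 ?_ ?_ ?_ ?_ ?_ ?_ _) (h_mul_h_mem _ h2 ?_ ?_ ?_ ?_ ?_ ?_ _)
    all_goals simp only [hE.st_x, R.neg_eq, R.sim_eq]
    exacts [commute_stGen (by decide +kernel), commute_stGen (by decide +kernel), commute_stGen (by decide +kernel),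
      commute_stGen (by decide +kernel), key (e6p1, e6p6) (by simp), key (e6m1, e6m6) (by simp),
      commute_stGen (by decide +kernel), commute_stGen (by decide +kernel), commute_stGen (by decide +kernel),
      commute_stGen (by decide +kernel), key (e6p3, e6p5) (by simp), key (e6m3, e6m5) (by simp)]

end H19.Cov
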