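import Cfsg.Agent.Lib.Cover.E62c
import Cfsg.Agent.Lib.Cover.E6Three
import Cfsg.Agent.S1066

/-! The Schur multiplier of `²E₆(2)`, part 4 (generated by tools/cover/e62.py). -/

set_option autoImplicit false
set_option maxRecDepth 1000000
set_option exponentiation.threshold 100000

namespace H19.Cov

open H15.Mdl

theorem e62_chk : Chk e62o 156 1 e62_C e62_C2 e62_H e62_rt e62 e622 e62e e62_rtT e62_c 3 :=
  ⟨e62_rt_ok, ⟨_, _, e62a_fmt⟩, ⟨_, _, e62e_fmt⟩, Nat.prime_two, e62_comb, by decide +kernel, by decide +kernel,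
    by decide +kernel, by decide +kernel, by decide +kernel, by decide +kernel, e62_rules, e62_fus, e62_fus2, e62_up, e62_lo,
    e62_node, by norm_num, ⟨_, by decide +kernel, e62_tor⟩, e62e_ext, e62e_cons, e62e_lift, e62e_comm⟩
theorem e62_gen {G : Type*} [Group G] (hG : Nat.card G = 76532479683774853939200) (hR : e62.Real G) : H60.GenB G 2 2 :=
  genB_up e62a_fmt e62a_f hR 1113694156575 (hG.trans (by decide +kernel)) (by decide +kernel) rfl rfl
    (As := e62a_A) (by decide +kernel) e62a_cert rfl e62a_rows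
theorem e62_exp {G : Type*} [Group G] (hG : Nat.card G = 76532479683774853939200) (hR : e62.Real G) : H60.ExpB G 2 1 :=
  expB_up e62a_fmt e62b_f hR 1113694156575 (hG.trans (by decide +kernel)) (by decide +kernel) 1 rfl rfl
    (by decide +kernel) e62b_cert rfl e62b_rows
theorem e62_card : Nat.card (Cfsg.Lie.twistedE6 H30.F4 2) = 76532479683774853939200 := by
  have := Cfsg.Agent.S1066.result (K := H30.F4) (q := 2) Nat.prime_two.isPrimePow rfl
  rw [show (2 : ℕ) ^ 36 * (2 ^ 2 - 1) * (2 ^ 5 + 1) * (2 ^ 6 - 1) * (2 ^ 8 - 1) * (2 ^ 9 + 1) * (2 ^ 12 - 1) =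
    Nat.gcd 3 (2 + 1) * 76532479683774853939200 by decide +kernel] at this
  exact Nat.eq_of_mul_eq_mul_left (by decide) this
theorem e62_mem : ∀ w ∈ e62_W, kw dec4 e62_Lt w ∈ Cfsg.Lie.e6Words H30.F4 2 := by
  simp only [Cfsg.Lie.e6Words, Set.mem_union, Set.mem_ofPred_eq]
  decide +kernel
theorem e62_all : ∀ u ∈ Cfsg.Lie.e6Words H30.F4 2, (∀ p ∈ u, p.2 = 0) ∨ ∃ w ∈ e62_W, u = kw dec4 e62_Lt w := by
  rintro _ (⟨t, ht, r, hr, rfl⟩ | ⟨t, r, hr, rfl⟩)
  · revert t r; decide +kernel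
  · revert t r; decide +kernel
theorem e62_bounds : e62.Real (Cfsg.Lie.twistedE6 H30.F4 2) ∧ H60.LowB (Cfsg.Lie.twistedE6 H30.F4 2) (e62.p ^ (e62e.n - e62.n)) ∧ PPB (Cfsg.Lie.twistedE6 H30.F4 2) e62.p ((∏ i : Fin e62_rt.l, e62_c i) / 3) := by
  have : Finite (Cfsg.Lie.twistedE6 H30.F4 2) := Nat.finite_of_card_ne_zero (by rw [e62_card]; norm_num)
  have : NeZero Cfsg.Lie.chevE6.nroots := ⟨by decide⟩
  exact e62_chk.main_gens (sound_F2m (by norm_num) e62o_is) (by norm_num) (by norm_num)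
    (chev_gens H37.tabE6 kap4_inj (m := 78) (by decide) (by norm_num) e62_ordOk (sound_F2m (by norm_num) e62o_is) (genSubgroup_eq H37.tabE6 _)
      (N := 28) (by decide +kernel) e62_xAt (by decide +kernel) e62_G0 e62_mem e62_all)
    e62_G1 e62_slpC e62_slpC2 e62_slpH e62_G2 1113694156575 (e62_card.trans (by decide +kernel)) (by decide +kernel)

/-- the Schur multiplier of `²E₆(2)` -/
theorem e62_main : Cfsg.HasSchurMultiplier (Cfsg.Lie.twistedE6 H30.F4 2) (Multiplicative (ZMod 3 × ZMod 2 × ZMod 2)) := by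
  have : Finite (Cfsg.Lie.twistedE6 H30.F4 2) := Nat.finite_of_card_ne_zero (by rw [e62_card]; norm_num)
  obtain ⟨hR, lo, pp⟩ := e62_bounds
  exact H60.hasBic_of_bounds e62_card (ps := [2, 3, 5, 7]) (by decide +kernel) 3 2 (H60.forall_mem_four
    ⟨1, by norm_num, e62_exp e62_card hR, .inr (.inr ⟨by norm_num, e62_gen e62_card hR⟩)⟩
    ⟨1, by norm_num, pp.expB Nat.prime_three (by decide +kernel) 1 (by decide +kernel),
      .inr (.inl ⟨by norm_num, pp.genB Nat.prime_three (by decide +kernel) (by decide +kernel)⟩)⟩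
    ⟨0, by norm_num, pp.expB Nat.prime_five (by decide +kernel) 0 (by decide +kernel), .inl rfl⟩
    ⟨0, by norm_num, pp.expB Nat.prime_seven (by decide +kernel) 0 (by decide +kernel), .inl rfl⟩)
    (H60.LowB.mul (a := 3) (b := 2 * 2) (by norm_num) lowB_twistedE6 lo)

end H19.Cov
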