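import Mathlib
import Cfsg.Agent.Lib.Cover.Master
import Cfsg.Agent.Lib.Cover.Fields
import Cfsg.Agent.Lib.ChevMat.Main
import Cfsg.Agent.Lib.ChevMat.FieldMap
import Cfsg.Agent.Lib.ChevMat.Eval

/-! Packed codes for the root elements of the Chevalley groups. -/

set_option autoImplicit false

namespace H19.Cov

open H54 H15.Mdl H37 Cfsg Cfsg.Lie Matrix

variable (D : ChevalleyDatum)

/-- the number of a basis vector -/
def ix : D.Idx → ℕ := Sum.elim Fin.val fun u => D.rank + u

/-- the terms (basis vector, power of `t`, coefficient) of the image of a basis vector under `x_r(t)` -/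
def colP (r a : ℕ) : List (ℕ × ℕ × ℤ) :=
  if a < D.rank then [(a, 0, 1), (D.rank + r, 1, -D.cartan a r)]
  else if a - D.rank = r then [(a, 0, 1)]
  else if a - D.rank = D.neg r then
    (a, 0, 1) :: (D.rank + r, 2, -1) :: (List.range D.rank).map fun i => (i, 1, cor D r i)
  else (a, 0, 1) :: (D.chainEntry r (a - D.rank)).zipIdx.map fun q => (D.rank + q.1.1, q.2 + 1, q.1.2)

variable {D}

theorem ev_ix (k : ℕ) (b : D.Idx) : ev D k b = if D.rank + k = ix D b then 1 else 0 := by
  rcases b with i | u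
  · exact (if_neg (show ¬ D.rank + k = i by omega)).symm
  · simp [ev, ix, eq_comm]

theorem single_ix (a b : D.Idx) : (Pi.single a 1 : D.Idx → ℤ) b = if ix D a = ix D b then 1 else 0 := by
  rw [Pi.single_apply]
  congr 1
  apply propext
  rcases a with i | u <;> rcases b with j | v
  · simp [ix, Fin.ext_iff, eq_comm]
  · have := i.2; simp [ix]; omega
  · have := j.2; simp [ix]; omega
  · simp [ix, Fin.ext_iff, eq_comm]

theorem X_apply (T : Tab D) {r : ℕ} (hr : r < D.nroots) {K : Type*} [CommRing K] (t : K) (b a : D.Idx) :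
    X D K r t b a = ((colP D r (ix D a)).map fun q => if q.1 = ix D b then (q.2.2 : K) * t ^ q.2.1 else 0).sum := by
  have e : X D K r t b a = (H37.col D r 0 a b : K) + t * H37.col D r 1 a b + t ^ 2 * H37.col D r 2 a b +
      t ^ 3 * H37.col D r 3 a b := by
    simp [X, Finset.sum_range_succ, Xk]
  rw [e, colP]
  rcases a with i | s
  · rw [if_pos (show ix D (.inl i) < D.rank from i.2)]
    simp only [H37.col, if_true, single_ix, Sum.elim_inl, one_ne_zero, if_false, Pi.smul_apply, ev_ix]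
    rw [show ix D (.inl i) = i from rfl]
    simp [mul_comm]
    split_ifs <;> simp
  · have e1 : ix D (.inr s) - D.rank = s := Nat.add_sub_cancel_left _ _
    rw [if_neg (show ¬ ix D (.inr s) < D.rank from Nat.not_lt.2 (Nat.le_add_right _ _)), e1]
    split_ifs with h1 h2
    · simp only [H37.col, if_true, single_ix, Sum.elim_inr, h1]
      simp
    · simp only [col_neg h1 h2, if_true, single_ix, List.map_cons, List.sum_cons, List.map_map]
      rw [← list_sum_range', Finset.sum_range]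
      have : ∑ i : Fin D.rank, ((fun q : ℕ × ℕ × ℤ => if q.1 = ix D b then (q.2.2 : K) * t ^ q.2.1 else 0) ∘
          fun i => (i, 1, cor D r i)) i = t * hv D r b := by
        rcases b with j | v
        · refine (Finset.sum_eq_single j (fun k _ hk => if_neg fun e => hk (Fin.ext e)) (by simp)).trans ?_
          simp [hv, mul_comm]
        · refine (Finset.sum_eq_zero fun (k : Fin D.rank) _ => if_neg (show ¬ (k : ℕ) = D.rank + v by omega)).trans ?_
          simp [hv]
      rw [this]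
      simp [ev_ix]
      split_ifs <;> ring
    · simp only [col_other h1 h2, if_true, single_ix, ChevalleyDatum.chainM, ChevalleyDatum.chainRoot]
      have hl := T.len_le r hr s
      generalize D.chainEntry r s = L at hl ⊢
      match L, hl with
      | [], _ => simp
      | [a], _ => simp [ev_ix, List.zipIdx, mul_comm]
      | [a, b], _ => simp [ev_ix, List.zipIdx, mul_comm, add_assoc]
      | [a, b, c], _ => simp [ev_ix, List.zipIdx, mul_comm, add_assoc]

/-- the basis vector with number `a` -/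
def ofIx (D : ChevalleyDatum) [NeZero D.nroots] (a : ℕ) : D.Idx :=
  if h : a < D.rank then .inl ⟨a, h⟩ else .inr (Fin.ofNat _ (a - D.rank))

theorem ix_ofIx [NeZero D.nroots] {a : ℕ} (h : a < D.rank + D.nroots) : ix D (ofIx D a) = a := by
  rw [ofIx]
  split_ifs with h'
  · rfl
  · show D.rank + (a - D.rank) % D.nroots = a
    rw [Nat.mod_eq_of_lt (by omega)]; omega

/-- the order of the basis over the prime field -/
def tau (D : ChevalleyDatum) [NeZero D.nroots] (e : ℕ) [NeZero e] (ordT n : ℕ) (k : Fin n) : D.Idx × Fin e :=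
  (ofIx D (rtx ordT (k / e)), Fin.ofNat e k)

/-- `ordT` is a permutation with inverse `posT` -/
noncomputable def ordOk (m ordT posT : ℕ) : Bool :=
  allLt (fun a => force (rtx ordT a) fun b => band (Nat.ble (Nat.succ b) m) (Nat.beq (rtx posT b) a)) m

theorem ordOk_spec {m ordT posT : ℕ} (h : ordOk m ordT posT = true) {a : ℕ} (ha : a < m) :
    rtx ordT a < m ∧ rtx posT (rtx ordT a) = a := by
  have := (allLt_iff _ _).1 h a ha
  simp only [force_eq, band_eq_true, Nat.ble_eq, Nat.beq_eq] at this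
  exact this

theorem tau_bij [NeZero D.nroots] {e : ℕ} [NeZero e] {m n ordT posT : ℕ} (hm : m = D.rank + D.nroots)
    (hn : n = m * e) (h : ordOk m ordT posT = true) : Function.Bijective (tau D e ordT n) := by
  refine (Fintype.bijective_iff_injective_and_card _).2 ⟨fun k l hkl => ?_, by simp [hn, hm]⟩
  have b : ∀ k : Fin n, k / e < m := fun k => Nat.div_lt_of_lt_mul (by rw [mul_comm, ← hn]; exact k.2)
  have h1 := congrArg (fun x => rtx posT (ix D x.1)) hkl
  have h2 : k % e = l % e := congrArg (fun x => x.2.1) hkl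
  simp only [tau] at h1
  rw [ix_ofIx (hm ▸ (ordOk_spec h (b k)).1), ix_ofIx (hm ▸ (ordOk_spec h (b l)).1), (ordOk_spec h (b k)).2,
    (ordOk_spec h (b l)).2] at h1
  exact Fin.ext (by rw [← Nat.div_add_mod k e, ← Nat.div_add_mod l e, h1, h2])

/-- `k (l.map (f, g))`, with the entries evaluated -/
noncomputable def mapG {α β : Type} (f g : α → ℕ) (l : List α) : (List (ℕ × ℕ) → β) → β :=
  List.rec (motive := fun _ => (List (ℕ × ℕ) → β) → β) (fun k => k [])
    (fun a _ ih k => force (f a) fun x => force (g a) fun y => ih fun l' => k ((x, y) :: l')) l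

theorem mapG_eq {α β : Type} (f g : α → ℕ) (l : List α) :
    ∀ k : List (ℕ × ℕ) → β, mapG f g l k = k (l.map fun a => (f a, g a)) := by
  induction l with
  | nil => intro k; rfl
  | cons a l ih => intro k; exact ih fun l' => k ((f a, g a) :: l')

/-- the sum modulo `P` of the values with key `b` -/
noncomputable def sumD (P b : ℕ) (L : List (ℕ × ℕ)) : ℕ :=
  List.rec (motive := fun _ => ℕ) 0 (fun q _ ih => sel (Nat.beq q.1 b) (Nat.mod (Nat.add q.2 ih) P) ih) L

theorem sumD_eq {α : Type} {P : ℕ} [NeZero P] (f : α → ℕ) (g : α → ZMod P) (b : ℕ) (l : List α) :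
    sumD P b (l.map fun a => (f a, (g a).val)) = ((l.map fun a => if f a = b then g a else 0).sum).val := by
  induction l with
  | nil => simp [sumD]
  | cons a l ih =>
    show sel (Nat.beq (f a) b) (((g a).val + sumD P b (l.map fun a => (f a, (g a).val))) % P)
      (sumD P b (l.map fun a => (f a, (g a).val))) = _
    rw [sel_eq, ih, List.map_cons, List.sum_cons]
    simp only [Nat.beq_eq]
    split_ifs
    · rw [ZMod.val_add]
    · rw [zero_add]

variable {K : Type} [Field K] {e P : ℕ}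

/-- `p` is the code of `x_r(t)` -/
noncomputable def xOk (D : ChevalleyDatum) (κ : K →+* Matrix (Fin e) (Fin e) (ZMod P)) (m n w ordT : ℕ) (r : ℕ) (t : K)
    (p : ℕ) : Bool :=
  band (Nat.ble (Nat.succ r) D.nroots) <| band (Nat.beq (Nat.shiftRight p (Nat.mul w (Nat.mul n n))) 0) <|
    force (Nat.mul w n) fun W => force (Nat.pow 2 W) fun M => force (Nat.pow 2 w) fun M' =>
      allLt (fun A => force (rtx ordT A) fun a => allL (fun s : Fin e =>
        force (Nat.mod (Nat.shiftRight p (Nat.mul W (Nat.add (Nat.mul e A) s))) M) fun c => allL (fun u : Fin e =>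
          mapG (fun q => q.1) (fun q => (κ ((q.2.2 : K) * t ^ q.2.1) u s).val) (colP D r a) fun L =>
            allLt (fun B => force (rtx ordT B) fun b =>
              Nat.beq (sumD P b L) (Nat.mod (Nat.shiftRight c (Nat.mul w (Nat.add (Nat.mul e B) u))) M')) m)
          (List.finRange e)) (List.finRange e)) m

/-- the matrices over the prime field -/
def muGL (κ : K →+* Matrix (Fin e) (Fin e) (ZMod P)) {n : ℕ} (τ : Fin n → D.Idx × Fin e)
    (hτ : Function.Bijective τ) : GL D.Idx K →* Matrix (Fin n) (Fin n) (ZMod P) :=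
  (res κ τ hτ).comp (Units.coeHom _)

theorem muGL_inj {κ : K →+* Matrix (Fin e) (Fin e) (ZMod P)} (hκ : Function.Injective κ) {n : ℕ}
    (τ : Fin n → D.Idx × Fin e) (hτ : Function.Bijective τ) : Function.Injective (muGL κ τ hτ) :=
  (res_injective hκ τ hτ).comp Units.val_injective

theorem RM_of_xOk (T : Tab D) [NeZero D.nroots] [NeZero e] [NeZero P] {κ : K →+* Matrix (Fin e) (Fin e) (ZMod P)}
    {m n w ordT posT : ℕ} (hm : m = D.rank + D.nroots) (hn : n = m * e) (ho : ordOk m ordT posT = true) {r : ℕ}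
    {t : K} {p : ℕ} (h : xOk D κ m n w ordT r t p = true) :
    RM n n w P (muGL κ _ (tau_bij hm hn ho) (xU D K r t)) p := by
  simp only [xOk, band_eq_true, force_eq, allL_iff, allLt_iff, Nat.beq_eq, Nat.ble_eq, mapG_eq] at h
  have b : ∀ k : Fin n, k / e < m := fun k => Nat.div_lt_of_lt_mul (by rw [mul_comm, ← hn]; exact k.2)
  refine RM.of_forall h.2.1 fun k l => ?_
  have h1 := h.2.2 _ (b l) (Fin.ofNat e l) (List.mem_finRange _) (Fin.ofNat e k) (List.mem_finRange _) _ (b k)
  have e1 : ∀ k : Fin n, Nat.add (Nat.mul e (k / e)) (Fin.ofNat e k) = k := fun k => Nat.div_add_mod k e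
  rw [e1, e1, sumD_eq] at h1
  rw [← dig_dig _ _ _ _ _ k.2]
  refine Eq.trans (congrArg _ ?_) h1
  show κ ((xU D K r t : Matrix D.Idx D.Idx K) _ _) _ _ = _
  rw [T.coe_xU, T.x_eq_X K h.1, X_apply T h.1]
  have e2 : ∀ k : Fin n, ix D (tau D e ordT n k).1 = rtx ordT (k / e) := fun k =>
    ix_ofIx (hm ▸ (ordOk_spec ho (b k)).1)
  rw [e2, e2]
  show κ _ (Fin.ofNat e k) (Fin.ofNat e l) = _
  generalize colP D r _ = L
  induction L with
  | nil => simp
  | cons q L ih =>
    rw [List.map_cons, List.map_cons, List.sum_cons, List.sum_cons, map_add, Matrix.add_apply, ih]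
    split_ifs <;> simp

/-- the value of a word -/
noncomputable def wU (D : ChevalleyDatum) (K : Type*) [Field K] (w : List (ℕ × K)) : GL D.Idx K :=
  (w.map fun p => xU D K p.1 p.2).prod

theorem coe_wU (T : Tab D) {K : Type*} [Field K] (w : List (ℕ × K)) :
    (wU D K w : Matrix D.Idx D.Idx K) = D.wordMat K w := by
  induction w with
  | nil => rfl
  | cons p w ih =>
    rw [wU, List.map_cons, List.prod_cons, Units.val_mul, T.coe_xU, ← wU, ih]
    simp [ChevalleyDatum.wordMat]

theorem genSubgroup_eq (T : Tab D) {K : Type*} [Field K] (S : Set (List (ℕ × K))) :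
    D.genSubgroup K S = Subgroup.closure (wU D K '' S) := by
  rw [ChevalleyDatum.genSubgroup]
  congr 1
  ext g
  exact ⟨fun ⟨w, hw, e⟩ => ⟨w, hw, Units.ext (by rw [coe_wU T, e])⟩, fun ⟨w, hw, e⟩ => ⟨w, hw, e ▸ coe_wU T w⟩⟩

theorem group_eq (T : Tab D) (K : Type*) [Field K] :
    D.group K = Subgroup.closure (wU D K '' {w | ∃ r < D.nroots, ∃ t, w = [(r, t)]}) := by
  rw [T.group_eq_closure]
  congr 1
  ext g
  constructor
  · rintro ⟨r, hr, t, rfl⟩
    exact ⟨_, ⟨r, hr, t, rfl⟩, by simp [wU]⟩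
  · rintro ⟨_, ⟨r, hr, t, rfl⟩, rfl⟩
    exact ⟨r, hr, t, by simp [wU]⟩

/-- the word with letters at the positions `w` of `Lt` -/
def kw (dec : ℕ → K) (Lt : List (ℕ × ℕ)) (w : List ℕ) : List (ℕ × K) :=
  w.map fun j => ((Lt.getD j (0, 0)).1, dec (Lt.getD j (0, 0)).2)

theorem words_spec {G : Type*} [Group G] {o : Ops} {R : G → ℕ → Prop} (hs : Sound o R) {γ : ℕ → G} {X : List ℕ}
    (hX : ∀ j, j < X.length → R (γ j) (nth X j)) : ∀ (W : List (List ℕ)) (S : List ℕ), W.length = S.length →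
    wordsChk o X W S = true → List.Forall₂ (fun w s => R (w.map γ).prod s) W S
  | [], [], _, _ => .nil
  | [], _ :: _, h, _ => absurd h (by simp)
  | _ :: _, [], h, _ => absurd h (by simp)
  | w :: W, s :: S, h, e => by
    have e' : band (allL (fun j => Nat.ble (Nat.succ j) (len X)) w)
        (band (o.eqv (o.word X w) s) (wordsChk o X W S)) = true := e
    simp only [band_eq_true, allL_iff, Nat.ble_eq, len_eq] at e'
    refine .cons (hs.tr ?_ e'.2.1) (words_spec hs hX W S (by simpa using h) e'.2.2)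
    have := e'.1
    clear e e' h
    induction w with
    | nil => exact hs.one
    | cons j w ih =>
      exact hs.mul (hX j (this j List.mem_cons_self)) (ih fun k hk => this k (List.mem_cons_of_mem _ hk))

/-- the codes `S` stand for elements of the group generated by the words `𝒮` and generate it -/
theorem gens_of_words (T : Tab D) {o : Ops} {R : GL D.Idx K → ℕ → Prop} (hs : Sound o R) {H : Subgroup (GL D.Idx K)}
    {𝒮 : Set (List (ℕ × K))} (hH : H = Subgroup.closure (wU D K '' 𝒮)) {dec : ℕ → K} {Lt : List (ℕ × ℕ)}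
    {X : List ℕ} (hX : ∀ j, j < X.length → R (xU D K (Lt.getD j (0, 0)).1 (dec (Lt.getD j (0, 0)).2)) (nth X j))
    {W : List (List ℕ)} {S : List ℕ} (hl : W.length = S.length) (hW : wordsChk o X W S = true)
    (h1 : ∀ w ∈ W, kw dec Lt w ∈ 𝒮) (h2 : ∀ u ∈ 𝒮, (∀ p ∈ u, p.2 = 0) ∨ ∃ w ∈ W, u = kw dec Lt w) :
    AllIn (fun (g : H) p => R g p) ⊤ S ∧ ∀ J : Subgroup H, AllIn (fun (g : H) p => R g p) J S → J = ⊤ := by
  have h := words_spec hs hX W S hl hW
  have e : ∀ w : List ℕ, (w.map fun j => xU D K (Lt.getD j (0, 0)).1 (dec (Lt.getD j (0, 0)).2)).prod =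
      wU D K (kw dec Lt w) := fun w => by rw [wU, kw, List.map_map]; rfl
  simp only [e] at h
  subst hH
  refine ⟨AllIn.top fun s hs' => ?_, fun J hJ => ?_⟩
  · obtain ⟨i, hi, rfl⟩ := List.getElem_of_mem hs'
    exact ⟨_, Subgroup.subset_closure ⟨_, h1 _ (List.getElem_mem (hl ▸ hi)), rfl⟩,
      (List.forall₂_iff_get.1 h).2 i (hl ▸ hi) hi⟩
  · rw [eq_top_iff, ← Subgroup.closure_preimage_eq_top, Subgroup.closure_le]
    rintro g ⟨u, hu, hg⟩
    rcases h2 u hu with h0 | ⟨w, hw, rfl⟩
    · have : g = 1 := Subtype.ext (hg.symm.trans (List.prod_eq_one fun x hx => by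
        obtain ⟨p, hp, rfl⟩ := List.mem_map.1 hx
        rw [h0 p hp, T.xU_zero]))
      rw [this]
      exact one_mem _
    · obtain ⟨i, hi, rfl⟩ := List.getElem_of_mem hw
      exact (hJ _ (List.getElem_mem (hl ▸ hi))).mem (hs.sub _)
        (show R g _ from (show _ = (g : GL D.Idx K) from hg) ▸ (List.forall₂_iff_get.1 h).2 i hi (hl ▸ hi))

/-- the entry `j` of `X` is the code of the root element number `j` of `Lt` -/
noncomputable def xAt (D : ChevalleyDatum) (κ : K →+* Matrix (Fin e) (Fin e) (ZMod P)) (m n w ordT : ℕ) (dec : ℕ → K)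
    (Lt : List (ℕ × ℕ)) (X : List ℕ) (j : ℕ) : Bool :=
  force (Lt.getD j (0, 0)).1 fun r => force (Lt.getD j (0, 0)).2 fun t => force (nth X j) fun p =>
    xOk D κ m n w ordT r (dec t) p

theorem chev_gens (T : Tab D) [NeZero D.nroots] [NeZero e] [NeZero P] {κ : K →+* Matrix (Fin e) (Fin e) (ZMod P)}
    (hκ : Function.Injective κ) {m n w ordT posT : ℕ} (hm : m = D.rank + D.nroots) (hn : n = m * e)
    (hd : ordOk m ordT posT = true) {o : Ops} (ho : Sound o (RM n n w P)) {H : Subgroup (GL D.Idx K)}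
    {𝒮 : Set (List (ℕ × K))} (hH : H = Subgroup.closure (wU D K '' 𝒮)) {dec : ℕ → K} {Lt : List (ℕ × ℕ)}
    {X : List ℕ} {N : ℕ} (hN : len X = N) (hX : ∀ j, j < N → xAt D κ m n w ordT dec Lt X j = true)
    {W : List (List ℕ)} {S : List ℕ} (hl : W.length = S.length) (hW : wordsChk o X W S = true)
    (h1 : ∀ w ∈ W, kw dec Lt w ∈ 𝒮) (h2 : ∀ u ∈ 𝒮, (∀ p ∈ u, p.2 = 0) ∨ ∃ w ∈ W, u = kw dec Lt w) :
    ∃ μ : H →* Matrix (Fin n) (Fin n) (ZMod P), Function.Injective μ ∧ AllIn (fun g p => RM n n w P (μ g) p) ⊤ S ∧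
      ∀ J : Subgroup H, AllIn (fun g p => RM n n w P (μ g) p) J S → J = ⊤ :=
  ⟨(muGL κ _ (tau_bij hm hn hd)).comp H.subtype, (muGL_inj hκ _ (tau_bij hm hn hd)).comp Subtype.val_injective,
    gens_of_words T (ho.comap _ (muGL_inj hκ _ (tau_bij hm hn hd))) hH
      (fun j hj => RM_of_xOk T hm hn hd (hX j (hN ▸ len_eq X ▸ hj))) hl hW h1 h2⟩

/-- the main theorem for a group generated by the elements coded in `X` -/
theorem Chk.main_gens {G : Type*} [Group G] [Finite G] {o : Ops} {n w : ℕ} {C C2 Ch : List ℕ} {t : RT}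
    {d d2 d' : H60.Pc} {rtT : ℕ} {c : ℕ → ℕ} {c0 : ℕ} (k : Chk o n w C C2 Ch t d d2 d' rtT c c0)
    (ho : Sound o (RM n n w P)) (hP : 2 ≤ P) (hw : 0 < w) {X S p1 p2 p3 : List ℕ} {W W' : List (List ℕ)}
    (h : ∃ μ : G →* Matrix (Fin n) (Fin n) (ZMod P), Function.Injective μ ∧
      AllIn (fun g p => RM n n w P (μ g) p) ⊤ X ∧ ∀ J : Subgroup G, AllIn (fun g p => RM n n w P (μ g) p) J X → J = ⊤)
    (h0 : wordsChk o X W S = true) (h1 : slpChk o S p1 C = true) (h2 : slpChk o S p2 C2 = true)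
    (h3 : slpChk o S p3 Ch = true) (h4 : wordsChk o (C ++ C2) W' X = true) (M : ℕ)
    (hcard : Nat.card G = d.p ^ d.n * M) (hM : M.Coprime d.p) :
    d.Real G ∧ H60.LowB G (d.p ^ (d'.n - d.n)) ∧ PPB G d.p ((∏ i : Fin t.l, c i) / c0) := by
  obtain ⟨μ, hμ, a, b⟩ := h
  have hs := ho.comap μ hμ
  have hS := a.of_wordsChk hs _ _ h0
  exact k.main hμ ho hP hw (hS.of_slpChk hs h1) (hS.of_slpChk hs h2) (hS.of_slpChk hs h3)
    (b _ ((k.allIn hs (hS.of_slpChk hs h1) (hS.of_slpChk hs h2)).of_wordsChk hs _ _ h4)) M hcard hM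

omit [Field K] in
theorem split_mem {dec : ℕ → K} {Lt : List (ℕ × ℕ)} {W : List (List ℕ)}
    (h : ∀ w ∈ W, w.length = 1 ∧ (Lt.getD (w.getD 0 0) (0, 0)).1 < D.nroots) :
    ∀ w ∈ W, kw dec Lt w ∈ {w : List (ℕ × K) | ∃ r < D.nroots, ∃ t, w = [(r, t)]} := fun w hw => by
  obtain ⟨a, b⟩ := h w hw
  obtain ⟨j, rfl⟩ := List.length_eq_one_iff.1 a
  exact ⟨_, b, _, rfl⟩

theorem split_all {dec : ℕ → K} {Lt : List (ℕ × ℕ)} {W : List (List ℕ)}
    (h : ∀ r < D.nroots, ∀ t : K, t = 0 ∨ ∃ w ∈ W, [(r, t)] = kw dec Lt w) :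
    ∀ u ∈ {w : List (ℕ × K) | ∃ r < D.nroots, ∃ t, w = [(r, t)]},
      (∀ p ∈ u, p.2 = 0) ∨ ∃ w ∈ W, u = kw dec Lt w := by
  rintro _ ⟨r, hr, t, rfl⟩
  exact (h r hr t).imp_left fun e p hp => by rw [List.mem_singleton.1 hp, e]

end H19.Cov
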