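import Cfsg.Agent.Lib.Cover.Master
import Cfsg.Agent.Lib.Cover.Fields
import Cfsg.Agent.Lib.Cover.Up
import Cfsg.Agent.Lib.Suzuki.Structure

/-! The Schur multiplier of `Sz(8)` (generated by tools/cover/sz8.py). -/

set_option autoImplicit false
set_option maxRecDepth 1000000
set_option exponentiation.threshold 100000

namespace H19.Cov

open H15.Mdl

def sz8o_u (p q : ℕ) : ℕ := (Nat.xor (Nat.xor (Nat.xor (Nat.xor (Nat.xor (Nat.xor (Nat.xor (Nat.xor (Nat.xor (Nat.xor (Nat.xor (Nat.xor 0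
    (Nat.mul (Nat.land (Nat.shiftRight q 0) 0x1001001001001001001001001001001001) (Nat.land (Nat.shiftRight p 0) 4095)))
    (Nat.mul (Nat.land (Nat.shiftRight q 1) 0x1001001001001001001001001001001001) (Nat.land (Nat.shiftRight p 12) 4095)))
    (Nat.mul (Nat.land (Nat.shiftRight q 2) 0x1001001001001001001001001001001001) (Nat.land (Nat.shiftRight p 24) 4095)))
    (Nat.mul (Nat.land (Nat.shiftRight q 3) 0x1001001001001001001001001001001001) (Nat.land (Nat.shiftRight p 36) 4095)))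
    (Nat.mul (Nat.land (Nat.shiftRight q 4) 0x1001001001001001001001001001001001) (Nat.land (Nat.shiftRight p 48) 4095)))
    (Nat.mul (Nat.land (Nat.shiftRight q 5) 0x1001001001001001001001001001001001) (Nat.land (Nat.shiftRight p 60) 4095)))
    (Nat.mul (Nat.land (Nat.shiftRight q 6) 0x1001001001001001001001001001001001) (Nat.land (Nat.shiftRight p 72) 4095)))
    (Nat.mul (Nat.land (Nat.shiftRight q 7) 0x1001001001001001001001001001001001) (Nat.land (Nat.shiftRight p 84) 4095)))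
    (Nat.mul (Nat.land (Nat.shiftRight q 8) 0x1001001001001001001001001001001001) (Nat.land (Nat.shiftRight p 96) 4095)))
    (Nat.mul (Nat.land (Nat.shiftRight q 9) 0x1001001001001001001001001001001001) (Nat.land (Nat.shiftRight p 108) 4095)))
    (Nat.mul (Nat.land (Nat.shiftRight q 10) 0x1001001001001001001001001001001001) (Nat.land (Nat.shiftRight p 120) 4095)))
    (Nat.mul (Nat.land (Nat.shiftRight q 11) 0x1001001001001001001001001001001001) (Nat.land (Nat.shiftRight p 132) 4095)))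
noncomputable def sz8o : Ops := ⟨fun p q => H54.force p fun p => H54.force q fun q => sz8o_u p q, 0x800400200100080040020010008004002001, Nat.beq⟩
theorem sz8o_is : IsF2 sz8o 12 := IsF2.of_lit (m := 4095) (E := 0x1001001001001001001001001001001001) (by decide +kernel)
  (by decide +kernel) (by decide +kernel) (fun _ _ => rfl) (fun _ _ => rfl)
def sz8o_au (p q : ℕ) : ℕ := (Nat.xor (Nat.xor (Nat.xor (Nat.xor (Nat.xor (Nat.xor (Nat.xor (Nat.xor (Nat.xor (Nat.xor (Nat.xor (Nat.xor 0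
    (Nat.mul (Nat.land (Nat.shiftRight q 0) 1) (Nat.land (Nat.shiftRight p 0) 4095)))
    (Nat.mul (Nat.land (Nat.shiftRight q 1) 1) (Nat.land (Nat.shiftRight p 12) 4095)))
    (Nat.mul (Nat.land (Nat.shiftRight q 2) 1) (Nat.land (Nat.shiftRight p 24) 4095)))
    (Nat.mul (Nat.land (Nat.shiftRight q 3) 1) (Nat.land (Nat.shiftRight p 36) 4095)))
    (Nat.mul (Nat.land (Nat.shiftRight q 4) 1) (Nat.land (Nat.shiftRight p 48) 4095)))
    (Nat.mul (Nat.land (Nat.shiftRight q 5) 1) (Nat.land (Nat.shiftRight p 60) 4095)))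
    (Nat.mul (Nat.land (Nat.shiftRight q 6) 1) (Nat.land (Nat.shiftRight p 72) 4095)))
    (Nat.mul (Nat.land (Nat.shiftRight q 7) 1) (Nat.land (Nat.shiftRight p 84) 4095)))
    (Nat.mul (Nat.land (Nat.shiftRight q 8) 1) (Nat.land (Nat.shiftRight p 96) 4095)))
    (Nat.mul (Nat.land (Nat.shiftRight q 9) 1) (Nat.land (Nat.shiftRight p 108) 4095)))
    (Nat.mul (Nat.land (Nat.shiftRight q 10) 1) (Nat.land (Nat.shiftRight p 120) 4095)))
    (Nat.mul (Nat.land (Nat.shiftRight q 11) 1) (Nat.land (Nat.shiftRight p 132) 4095)))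
noncomputable def sz8o_act (p q : ℕ) : ℕ := H54.force p fun p => H54.force q fun q => sz8o_au p q
theorem sz8o_act_eq (p q : ℕ) : sz8o_act p q = mm 12 (2 ^ 12 - 1) 1 p q :=
  (rfl : _ = mm 12 4095 1 p q).trans (by rw [show (4095 : ℕ) = 2 ^ 12 - 1 by decide +kernel])

def sz8_C : List ℕ := [0x800400200100080040020010008004002001, 0x904482241124092049024012009004002001, 0x8c25012851290bd07702301400a004002001, 0x9814c530711f0a605302601300c004002001, 0x824412209104082041020010008004002001, 0x81d427216103084042020010008004002001, 0x83341c222106083044020010008004002001]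
def sz8_H : List ℕ := [0xa00e00c000401401c0030018020007006003]
noncomputable def sz8 : H60.Pc := ⟨2, 6, 0x6140c00018403000060c0c0001820300006040c0000060180000000000014403000050c0c0001420300005040c000005018000000000001030300004080c00010103000001006000144030010308121850c106000000c06006144048018204120000020180000100600000101800000000,
  34, 0x3ffffffff, 19, 1, 6, 63, 30, 18, 262143, 1,
  [0x60001400040000c0002000040000],
  [0x4006106144142040003000080000]⟩
theorem sz8a_fmt : H60.fmtOk sz8 ⟨1, 0, 0, 0, 0⟩ 0 = true := by decide +kernel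
def sz8a : Up := ⟨2, 1, 1, 6, 10, 6, 35, 18⟩
theorem sz8a_f : fmtUp sz8 sz8a 21 := by decide +kernel
noncomputable def sz8a_r0 : H60.Rels :=
  .cons 0 1 65 23690 <|
  .cons 0 5 65 40519 <|
  .cons 0 6 65 53092 <|
  .cons 0 3 195 0x4a6f36 <|
  .cons 0 2 65 0x375a670f <|
  .cons 0 6 195 0x6acc41 <|
  .cons 0 2 130 0x2f466506 <|
  .cons 0 3 65 0x6ed56a9426c79 <|
  .cons 0 2 66 0xdd7ad425dfc <|
  .cons 0 3 131 0x119d36670c <|
  .cons 0 3 67 0x376ac54a5425dcd <|
  .cons 0 3 130 0xc529d3665e4 <|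
  .cons 0 3 66 0x6ac57a7465e9c <|
  .cons 1 65 4 0x41161585 <|
  .cons 1 66 24705 0x45222728 <|
  .cons 1 130 24900 0x22c382dd99d262cd7 <|
  .cons 1 67 0x1850c1 0x8b0dbb566bd19d1e2461 <|
  .cons 1 131 16578 0x105bb35ea52a33a3df4 <|
  .cons 1 195 324 0x87057a9468498b12141e <|
  .nil
theorem sz8a_r0_ok : relsUp sz8 sz8a sz8a_r0 = true := by decide +kernel
noncomputable def sz8a_W : List ℕ := sz8a_r0.ws
theorem sz8a_cert : CertUp sz8 sz8a sz8a_W := certUp_of sz8a_r0_ok
def sz8a_A : List ℕ := [0xf161793, 0x221758]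
def sz8a_C : List ℕ := [0, 400, 444, 623, 5901, 0xb121712, 9219]
def sz8a_X1 : List ℕ := [0, 912, 0, 545, 468, 0, 1233, 2698, 0x75b5283e, 0, 4141, 0x6fb36c34, 0x4cc61812, 0x186f30c, 0, 0x22c695bb, 0x22d38760, 0x4cc6983b, 8646, 0x1b8a380, 0, 0x6efd8ff7, 0x4d64e9dd, 0x6eb51ec3, 16856, 147904, 0x14fe3ad]
theorem sz8a_rows1 : rowsUp sz8 sz8a (sz8a_A ++ sz8a_W) sz8a_C sz8a_X1 1 6 = true := by decide +kernel
theorem sz8a_rows : RowsUp sz8 sz8a (sz8a_A ++ sz8a_W) sz8a_C 1 :=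
  .step sz8a_rows1 <| rowsUp_top (by decide +kernel)
def sz8b : Up := ⟨4, 2, 2, 6, 13, 6, 35, 17⟩
theorem sz8b_f : fmtUp sz8 sz8b 22 := by decide +kernel
noncomputable def sz8b_r0 : H60.Rels :=
  .cons 0 1 65 47056 <|
  .cons 0 6 70 92457 <|
  .cons 0 4 132 52149 <|
  .cons 0 4 196 55319 <|
  .cons 0 6 198 100779 <|
  .cons 0 5 65 0x13d0b5a <|
  .cons 0 6 65 0x19d6bab <|
  .cons 0 3 195 0x124d63a <|
  .cons 0 2 65 0x1b564c44bb1 <|
  .cons 0 6 195 0x1ad9d8a92 <|
  .cons 0 2 130 0x17514c467 <|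
  .cons 0 3 65 0x1b5a5654504d478bf <|
  .cons 0 2 66 0x1bd7d6504b44a85 <|
  .cons 0 3 131 0x13914ecdcc48bf9 <|
  .cons 0 3 67 0x1bdad8d4d2d04b47ae6 <|
  .cons 0 3 130 0x199853924e4d4c48b71 <|
  .cons 0 3 66 0x1a5857d351cb530 <|
  .cons 1 65 4 0x20dd8542c7c <|
  .cons 1 260 0 0x209b5a5954536f9 <|
  .cons 1 66 24705 0x22c844d55 <|
  .cons 1 130 24900 0x22e1e0de9bd9d38ec945f96 <|
  .cons 1 195 324 0x21e0df9a975451504c89c544426e3 <|
  .nil
theorem sz8b_r0_ok : relsUp sz8 sz8b sz8b_r0 = true := by decide +kernel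
noncomputable def sz8b_W : List ℕ := sz8b_r0.ws
theorem sz8b_cert : CertUp sz8 sz8b sz8b_W := certUp_of sz8b_r0_ok
def sz8b_A : List ℕ := []
def sz8b_C : List ℕ := [0, 0x842fe5, 0x84745ed9, 0x948474584601, 11199, 0x58482bdf, 18865]
def sz8b_X1 : List ℕ := [0, 0x2a0280a0010984, 0, 621, 0x2ae3de6c7a3a45, 0, 0xe15ecc7933fe, 0x2a0280a0010b25, 0x2ae3de6c7a3846, 0, 3031, 49649, 197435, 0xa00a2a00b50, 0, 0xa282aa3e162, 0xa20a2a3caef, 0x20302ff, 0x2000b1, 0xa2a02280382, 0, 0x882a2a8e0dd, 0xa2022a3094f, 0x800a0a0cb25, 0x8002f6, 0x208003ea, 0x882aaa8203c]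
theorem sz8b_rows1 : rowsUp sz8 sz8b sz8b_W sz8b_C sz8b_X1 1 6 = true := by decide +kernel
theorem sz8b_rows : RowsUp sz8 sz8b sz8b_W sz8b_C 1 :=
  .step sz8b_rows1 <| rowsUp_top (by decide +kernel)
noncomputable def sz8e : H60.Pc := ⟨2, 8, 0x81c0c000008180c000008140c000008100c0000080c0c000008080c000008040c00000020060000000000000007180c000007140c000007100c0000070c0c000007080c000007040c0000001c060000000000000006140c000006100c0081c60c1800020608120081c6041800000018060000000000000005100c0002050c120001c508120001c50412000000140600000000000002040c120081c40818000004040c0000001006000205101200810308181c6143041e0000000c06000185101200018204120000000806000000100600000004060000000000,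
  40, 0xffffffffff, 24, 1, 6, 63, 59, 18, 262143, 1,
  [],
  [0x80001c0204006106144142040003000080000]⟩
theorem sz8e_fmt : H60.fmtOk sz8e ⟨1, 0, 0, 0, 0⟩ 0 = true := by decide +kernel
theorem sz8e_ext : extOk sz8 sz8e = true := by decide +kernel
theorem sz8e_cons_1 : consOk sz8e 1 8 = true := by decide +kernel
theorem sz8e_cons : ConsFrom sz8e 1 :=
  .step sz8e_cons_1 <| consFrom_top sz8e (by decide +kernel)
theorem sz8e_lift0_1 : fusLift sz8 sz8e 0 1 8 = true := by decide +kernel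
theorem sz8e_lift0 : FusFrom sz8 sz8e 0 1 :=
  .step sz8e_lift0_1 <| fusFrom_top (by decide +kernel)
theorem sz8e_lift : ∀ f, f < 1 → FusOk sz8 sz8e f :=
  forall_lt_succ (forall_lt_zero) sz8e_lift0
theorem sz8e_comm : ∀ z, 6 < z → z ≤ 8 → ∃ l, prodC sz8e z l 0 = true := fun z h1 h2 => by
  interval_cases z
  · exact ⟨[69], by decide +kernel⟩
  · exact ⟨[196], by decide +kernel⟩
theorem sz8_gen {G : Type*} [Group G] (hG : Nat.card G = 29120) (hR : sz8.Real G) : H60.GenB G 2 2 :=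
  genB_up sz8a_fmt sz8a_f hR 455 (hG.trans (by decide +kernel)) (by decide +kernel) rfl rfl
    (As := sz8a_A) (by decide +kernel) sz8a_cert rfl sz8a_rows
theorem sz8_exp {G : Type*} [Group G] (hG : Nat.card G = 29120) (hR : sz8.Real G) : H60.ExpB G 2 1 :=
  expB_up sz8a_fmt sz8b_f hR 455 (hG.trans (by decide +kernel)) (by decide +kernel) 1 rfl rfl
    (by decide +kernel) sz8b_cert rfl sz8b_rows
theorem sz8_rules_0 : rulesAt sz8o sz8_C sz8 0 7 = true := by decide +kernel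
theorem sz8_rules : RulesFrom sz8o sz8_C sz8 0 :=
  .step sz8_rules_0 <| rulesFrom_top (by decide +kernel)
theorem sz8_fus : fusAt sz8o sz8_C sz8_H 6 sz8 0 = true := by decide +kernel
noncomputable def sz8_l : H60.Lvs :=
  .cons 512 [0, 4, 5, 195, 6, 262, 326, 130, 1, 68, 69, 4291, 70, 4358, 4422, 4226, 2, 132, 133, 8387, 134, 4225, 8518, 8322, 8261, 270466, 129, 8260, 4229, 270531, 66, 4228, 3, 196, 197, 12483, 198, 12550, 8386, 4289, 4293, 274627, 67, 4292, 193, 12356, 4294, 274694, 8390, 12422, 274498, 528577, 131, 194, 8389, 12421, 4227, 4290, 8385, 12417, 8259, 274566, 528581, 12354] <|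
  .nil
theorem sz8_low : H60.lowOk (fun i x => sz8o_act (H54.nth sz8_C i) x) 6 sz8_l [] = true := by decide +kernel

/-- the order of the basis -/
def sz8_τ (k : Fin 12) : Fin 4 × Fin 3 := (⟨k.1 / 3, by omega⟩, ⟨k.1 % 3, by omega⟩)
theorem sz8_bij : Function.Bijective sz8_τ := by decide +kernel
/-- the unipotent matrices over `F8` -/
def sz8_u (a b : F8) : Matrix (Fin 4) (Fin 4) F8 :=
  !![1, a, b + a ^ 4 * a, a * b + a ^ 4 * a ^ 2 + b ^ 4; 0, 1, a ^ 4, b; 0, 0, 1, a; 0, 0, 0, 1]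
/-- the diagonal matrices over `F8` -/
def sz8_h (k : F8) : Matrix (Fin 4) (Fin 4) F8 :=
  !![k ^ 2 * k, 0, 0, 0; 0, k ^ 2, 0, 0; 0, 0, (k ^ 2)⁻¹, 0; 0, 0, 0, (k ^ 2 * k)⁻¹]
theorem sz8_ent : ∀ x ∈ List.zip [(0, 0), (1, 0), (2, 0), (4, 0), (0, 1), (0, 2), (0, 4)] sz8_C,
    entOk 12 1 (fun k l => (res kap8 sz8_τ sz8_bij (sz8_u (.ofN x.1.1) (.ofN x.1.2)) k l).val) x.2 = true := by
  decide +kernel
theorem sz8_enth : entOk 12 1 (fun k l => (res kap8 sz8_τ sz8_bij (sz8_h (.ofN 2)) k l).val) (H54.nth sz8_H 0) = true := by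
  decide +kernel

open H14.Sz

variable {G : Type*} [Group G] {F : Type*} [Field F] [Fintype F] [SzF F 1] (S : Model G F 1) (e : F ≃+* F8)

/-- the matrices over the prime field -/
noncomputable def sz8_μ : G →* Matrix (Fin 12) (Fin 12) (ZMod 2) :=
  (res kap8 sz8_τ sz8_bij).comp (e.mapMatrix.toRingHom.toMonoidHom.comp S.mat)

theorem sz8_inj : Function.Injective (sz8_μ S e) :=
  (res_injective kap8_inj _ sz8_bij).comp (e.mapMatrix.injective.comp S.mat_injective)

theorem sz8_μ_eq (g : G) : sz8_μ S e g = res kap8 sz8_τ sz8_bij ((S.mat g).map e) := rfl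

theorem sz8_μ_u (a b : F8) : sz8_μ S e (S.u (e.symm a) (e.symm b)) = res kap8 sz8_τ sz8_bij (sz8_u a b) := by
  rw [sz8_μ_eq, S.mat_u]
  congr 1
  ext i j
  fin_cases i <;> fin_cases j <;> simp [uM, sz8_u, nrm_def, th_apply]

theorem sz8_μ_h (k : Fˣ) : sz8_μ S e (S.h k) = res kap8 sz8_τ sz8_bij (sz8_h (e k)) := by
  rw [sz8_μ_eq, S.mat_h]
  congr 1
  ext i j
  fin_cases i <;> fin_cases j <;> simp [hM, sz8_h, rt]

theorem sz8_gens : AllIn (fun g p => RM 12 12 1 2 (sz8_μ S e g) p) S.U sz8_C := fun p hp => by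
  obtain ⟨x, hx, rfl⟩ := List.mem_map.1 (show p ∈ (List.zip [(0, 0), (1, 0), (2, 0), (4, 0), (0, 1), (0, 2), (0, 4)] sz8_C).map Prod.snd from hp)
  exact ⟨_, S.u_mem_U _ _, RM_of_entOk (fun k l => by rw [sz8_μ_u]) (sz8_ent x hx)⟩

include S e in
/-- the Schur multiplier of `Sz(8)` -/
theorem sz8_main : Cfsg.HasSchurMultiplier G (Multiplicative (ZMod 2 × ZMod 2)) := by
  have := S.finite
  have hF : Fintype.card F = 8 := SzF.hF (m := 1)
  have hG : Nat.card G = 29120 := by rw [S.card_G, hF]; norm_num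
  have hs := (sound_F2m (by norm_num) sz8o_is).comap _ (sz8_inj S e)
  have hC := sz8_gens S e
  have k0 : e.symm (.ofN 2) ≠ 0 := (map_ne_zero _).2 (by decide)
  have rh : (fun g p => RM 12 12 1 2 (sz8_μ S e g) p) (S.h (.mk0 _ k0)) (H54.nth sz8_H 0) :=
    RM_of_entOk (fun k l => by rw [sz8_μ_h, Units.val_mk0, e.apply_symm_apply]) sz8_enth
  have hH : AllIn (fun g p => RM 12 12 1 2 (sz8_μ S e g) p) ⊤ sz8_H := fun p hp => ⟨_, trivial, (show p = H54.nth sz8_H 0 from List.mem_singleton.1 hp) ▸ rh⟩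
  obtain ⟨ok, sh, -⟩ := H60.fmtOk_spec sz8a_fmt
  obtain ⟨ok', sh', -⟩ := H60.fmtOk_spec sz8e_fmt
  have H := holds_of_codes hs (hC.mono le_top) hH ok (by decide +kernel) (by decide +kernel) (by decide +kernel) sz8_rules
    (forall_lt_succ forall_lt_zero sz8_fus)
  have b := le_card_of_low hs (by norm_num) one_pos (by norm_num) (vecOk_two (by norm_num) sz8o_act_eq)
    (allIn_closure_el hs (hC.mono le_top) (n := 6) rfl (by decide +kernel)) (by decide +kernel) (by decide +kernel)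
    (by decide +kernel) sz8_low
  have hP : Subgroup.closure (el (fun g p => RM 12 12 1 2 (sz8_μ S e g) p) sz8_C '' {i | 1 ≤ i ∧ i ≤ 6}) = S.U := by
    refine Subgroup.eq_of_le_of_card_ge ((Subgroup.closure_le _).2 ?_) (by rw [S.card_U, hF]; exact b)
    rintro _ ⟨i, hi, rfl⟩
    obtain ⟨a, ha, r⟩ := hC _ (show H54.nth sz8_C i ∈ sz8_C by obtain ⟨h1, h2⟩ := hi; interval_cases i <;> decide +kernel)
    exact (show a = el _ sz8_C i from (pt_eq hs r).symm) ▸ ha
  have hR : sz8.Real G := ⟨_, _, H, b⟩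
  refine H60.hasTwo_of_bounds hG (ps := [2]) (by decide +kernel) 2 (List.forall_mem_singleton.2
    ⟨1, by norm_num, sz8_exp hG hR, .inr (.inr ⟨by norm_num, sz8_gen hG hR⟩)⟩) ?_
  refine lowB_of_pc ok' sh' Nat.prime_two H b 455 hG (by decide) sz8e_ext sz8e_cons sz8e_lift sz8e_comm
    fun K _ π hc hr hf y => ?_
  replace hr : π.range = S.U := hr.trans hP
  have h0 : St π (S.h (.mk0 _ k0)) S.U := by
    have := hf 0 (by decide +kernel)
    rwa [show el _ sz8_H 0 = _ from pt_eq hs rh, show {x | 1 ≤ x ∧ x ≤ sz8.n ∧ sz8.uw 0 x = x} = {i | 1 ≤ i ∧ i ≤ 6} from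
      Set.ext fun x => and_congr_right fun h1 => and_iff_left_of_imp fun h2 : x ≤ 6 => by
        interval_cases x <;> decide +kernel, hP] at this
  rw [hr]
  by_cases hy : y ∈ S.B
  · obtain ⟨a, b, k, rfl⟩ := S.mem_B_iff.1 hy
    have : Fact (Nat.Prime 7) := ⟨by norm_num⟩
    obtain ⟨j, rfl⟩ := mem_powers_of_prime_card (p := 7) (by rw [Nat.card_units, Nat.card_eq_fintype_card, hF])
      (g := Units.mk0 _ k0) (fun h => absurd ((e.symm.map_eq_one_iff).1 (congrArg Units.val h)) (by decide)) (g' := k)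
    refine ((st_of_mem_range hc (hr ▸ S.u_mem_U a b) Set.univ).mul ?_ fun _ _ => trivial).mono fun x hx => hx.1
    rw [map_pow]
    exact h0.pow (fun x hx => S.conj_mem_U (S.h_mem_B _) hx) j
  · refine ⟨id, fun _ _ _ _ => rfl, fun x hx => ?_, fun _ _ => rfl⟩
    by_cases h1 : π x = 1
    · simp [h1]
    · exact absurd (S.mem_B_of_conj_mem_U hx.1 h1 (S.U_le_B hx.2)) hy

end H19.Cov
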